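import Mathlib

/-!
# Ferrand gluing: the spectrum of a fibre product of rings is a pushout of schemes

For a fibre square of rings `C = A' ×_A B` with `A' → A` surjective, `Spec C` is the pushout of
`Spec A' ← Spec A → Spec B` in the category of schemes.
-/

set_option autoImplicit false
set_option linter.style.haveILetI false
set_option maxHeartbeats 800000

open CategoryTheory CategoryTheory.Limits AlgebraicGeometry

namespace Groth.Agent.Ferrand

universe u

/-- A fibre square of rings, with surjective `p`. -/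
structure Square {A A' B C : Type u} [CommRing A] [CommRing A'] [CommRing B] [CommRing C]
    (p : A' →+* A) (q : B →+* A) (π₁ : C →+* A') (π₂ : C →+* B) : Prop where
  surj : Function.Surjective p
  comm : ∀ c, p (π₁ c) = q (π₂ c)
  inj : ∀ {c d}, π₁ c = π₁ d → π₂ c = π₂ d → c = d
  exists_lift : ∀ a b, p a = q b → ∃ c, π₁ c = a ∧ π₂ c = b

variable {A A' B C : Type u} [CommRing A] [CommRing A'] [CommRing B] [CommRing C]
  {p : A' →+* A} {q : B →+* A} {π₁ : C →+* A'} {π₂ : C →+* B} (H : Square p q π₁ π₂)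

namespace Square

include H in
theorem surj₂ : Function.Surjective π₂ := fun b => by
  obtain ⟨a, ha⟩ := H.surj (q b)
  obtain ⟨c, -, hc⟩ := H.exists_lift a b ha
  exact ⟨c, hc⟩

/-- Localisation of the first projection. -/
noncomputable def l₁ (π₁ : C →+* A') (h : C) : Localization.Away h →+* Localization.Away (π₁ h) :=
  IsLocalization.Away.map _ _ π₁ h

/-- Localisation of the map `B → A`. -/
noncomputable def lq (H : Square p q π₁ π₂) (h : C) :
    Localization.Away (π₂ h) →+* Localization.Away (p (π₁ h)) :=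
  IsLocalization.Away.lift (π₂ h) (g := (algebraMap A _).comp q) (by
    rw [RingHom.comp_apply, ← H.comm]
    exact IsLocalization.Away.algebraMap_isUnit _)

/-- Localisation of the map `A' → A`. -/
noncomputable def lp (p : A' →+* A) (a : A') : Localization.Away a →+* Localization.Away (p a) :=
  IsLocalization.Away.map _ _ p a

include H in
/-- Fibre squares localise. -/
theorem localize (h : C) :
    Square (lp p (π₁ h)) (H.lq h) (l₁ π₁ h) (l₁ π₂ h) := by
  have hl₁ : ∀ c, l₁ π₁ h (algebraMap _ _ c) = algebraMap _ _ (π₁ c) := fun c => by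
    simp [l₁, IsLocalization.Away.map]
  have hl₂ : ∀ c, l₁ π₂ h (algebraMap _ _ c) = algebraMap _ _ (π₂ c) := fun c => by
    simp [l₁, IsLocalization.Away.map]
  have hlp : ∀ a, lp p (π₁ h) (algebraMap _ _ a) = algebraMap _ _ (p a) := fun a => by
    simp [lp, IsLocalization.Away.map]
  have hlq : ∀ b, H.lq h (algebraMap _ _ b) = algebraMap A _ (q b) := fun b =>
    IsLocalization.Away.lift_eq _ _ _
  refine ⟨?_, ?_, ?_, ?_⟩
  · intro x
    obtain ⟨n, a, ha⟩ := IsLocalization.Away.surj (p (π₁ h)) x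
    obtain ⟨a', rfl⟩ := H.surj a
    have hu : IsUnit (algebraMap A' (Localization.Away (π₁ h)) (π₁ h) ^ n) :=
      (IsLocalization.Away.algebraMap_isUnit _).pow _
    refine ⟨algebraMap _ _ a' * ↑hu.unit⁻¹, (hu.map (lp p (π₁ h))).mul_left_injective ?_⟩
    beta_reduce
    rw [← map_mul, mul_assoc, hu.val_inv_mul, mul_one, hlp, map_pow, hlp, ha]
  · intro x
    refine DFunLike.congr_fun (IsLocalization.ringHom_ext (Submonoid.powers h) (j := (lp p (π₁ h)).comp (l₁ π₁ h))
      (k := (H.lq h).comp (l₁ π₂ h)) (RingHom.ext fun c => ?_)) x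
    simp only [RingHom.comp_apply]
    rw [hl₁, hl₂, hlp, hlq, H.comm c]
  · intro x y h₁ h₂
    obtain ⟨n, c, hc⟩ := IsLocalization.Away.surj h (x - y)
    have e₁ : algebraMap A' (Localization.Away (π₁ h)) (π₁ c) = 0 := by
      rw [← hl₁, ← hc, map_mul, map_sub, h₁, sub_self, zero_mul]
    have e₂ : algebraMap B (Localization.Away (π₂ h)) (π₂ c) = 0 := by
      rw [← hl₂, ← hc, map_mul, map_sub, h₂, sub_self, zero_mul]
    obtain ⟨⟨_, k, rfl⟩, hk⟩ := (IsLocalization.map_eq_zero_iff (Submonoid.powers (π₁ h)) _ _).1 e₁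
    obtain ⟨⟨_, l, rfl⟩, hl⟩ := (IsLocalization.map_eq_zero_iff (Submonoid.powers (π₂ h)) _ _).1 e₂
    have h0 : algebraMap C (Localization.Away h) c = 0 := by
      refine (IsLocalization.map_eq_zero_iff (Submonoid.powers h) _ _).2
        ⟨⟨h ^ (k + l), k + l, rfl⟩, H.inj ?_ ?_⟩
      · rw [map_mul, map_pow, map_zero, pow_add, mul_right_comm,
          show π₁ h ^ k * π₁ c = 0 from hk, zero_mul]
      · rw [map_mul, map_pow, map_zero, pow_add, mul_assoc, show π₂ h ^ l * π₂ c = 0 from hl,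
          mul_zero]
    rw [h0] at hc
    exact sub_eq_zero.1 (((IsLocalization.Away.algebraMap_isUnit h).pow n).mul_left_eq_zero.1 hc)
  · intro x y hxy
    obtain ⟨n, a, ha⟩ := IsLocalization.Away.surj (π₁ h) x
    obtain ⟨m, b, hb⟩ := IsLocalization.Away.surj (π₂ h) y
    have ha' : x * algebraMap A' _ (π₁ h) ^ (n + m) = algebraMap A' _ (a * π₁ h ^ m) := by
      rw [pow_add, ← mul_assoc, ha, map_mul, map_pow]
    have hb' : y * algebraMap B _ (π₂ h) ^ (n + m) = algebraMap B _ (b * π₂ h ^ n) := by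
      rw [add_comm, pow_add, ← mul_assoc, hb, map_mul, map_pow]
    have h1 := congrArg (lp p (π₁ h)) ha'
    have h2 := congrArg (H.lq h) hb'
    rw [map_mul, map_pow, hlp, hlp, hxy] at h1
    rw [map_mul, map_pow, hlq, hlq, ← H.comm, h1] at h2
    obtain ⟨⟨_, k, rfl⟩, hk⟩ :=
      (IsLocalization.eq_iff_exists (Submonoid.powers (p (π₁ h))) _).1 h2
    obtain ⟨c, hc₁, hc₂⟩ := H.exists_lift (π₁ h ^ k * (a * π₁ h ^ m)) (π₂ h ^ k * (b * π₂ h ^ n))
      (by
        simp only [map_mul, map_pow] at hk ⊢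
        rw [← H.comm]
        exact hk.trans (by rw [← H.comm]))
    have hu : IsUnit (algebraMap C (Localization.Away h) h ^ (k + (n + m))) :=
      (IsLocalization.Away.algebraMap_isUnit h).pow _
    refine ⟨algebraMap _ _ c * ↑hu.unit⁻¹, (hu.map (l₁ π₁ h)).mul_left_injective ?_,
      (hu.map (l₁ π₂ h)).mul_left_injective ?_⟩
    · beta_reduce
      rw [← map_mul, mul_assoc, hu.val_inv_mul, mul_one, map_pow, hl₁, hl₁, hc₁, map_mul, map_pow,
        ← ha', pow_add _ k]
      ring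
    · beta_reduce
      rw [← map_mul, mul_assoc, hu.val_inv_mul, mul_one, map_pow, hl₂, hl₂, hc₂, map_mul, map_pow,
        ← hb', pow_add _ k]
      ring

include H in
theorem mem_range₁ (z : PrimeSpectrum C) (c : C) (hc : π₂ c = 0) (hz : c ∉ z.asIdeal) :
    z ∈ Set.range (PrimeSpectrum.comap π₁) := by
  rw [PrimeSpectrum.mem_range_comap_iff]
  refine le_antisymm ?_ Ideal.le_comap_map
  intro y hy
  have key : ∀ x ∈ z.asIdeal.map π₁, ∃ w ∈ z.asIdeal, π₁ w = x * π₁ c ∧ π₂ w = 0 := by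
    intro x hx
    refine Submodule.span_induction ?_ ?_ ?_ ?_ hx
    · rintro _ ⟨u, hu, rfl⟩
      exact ⟨u * c, Ideal.mul_mem_right _ _ hu, map_mul _ _ _, by rw [map_mul, hc, mul_zero]⟩
    · exact ⟨0, zero_mem _, by rw [map_zero, zero_mul], map_zero _⟩
    · rintro x₁ x₂ - - ⟨w₁, hw₁, e₁, f₁⟩ ⟨w₂, hw₂, e₂, f₂⟩
      exact ⟨w₁ + w₂, add_mem hw₁ hw₂, by rw [map_add, e₁, e₂, add_mul],
        by rw [map_add, f₁, f₂, add_zero]⟩
    · rintro r x - ⟨w, hw, e, f⟩
      obtain ⟨r', hr₁, hr₂⟩ := H.exists_lift (r * π₁ c) 0 (by rw [map_mul, H.comm, hc, map_zero, mul_zero])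
      have hmem : r' * w ∈ z.asIdeal := Ideal.mul_mem_left _ _ hw
      obtain ⟨w', e', f'⟩ := H.exists_lift (r * (x * π₁ c)) 0 (by
        rw [← e, map_mul, H.comm, f, map_zero, mul_zero])
      have heq : w' * c = r' * w :=
        H.inj (by rw [map_mul, map_mul, e', hr₁, e]; ring) (by rw [map_mul, map_mul, hc, f]; simp)
      have : w' ∈ z.asIdeal := (z.isPrime.mem_or_mem (heq ▸ hmem)).resolve_right hz
      exact ⟨w', this, by rw [e', smul_eq_mul, mul_assoc], f'⟩
  obtain ⟨w, hw, e, f⟩ := key _ (Ideal.mem_comap.1 hy)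
  have : w = y * c := H.inj (by rw [e, map_mul]) (by rw [f, map_mul, hc, mul_zero])
  exact (z.isPrime.mem_or_mem (this ▸ hw)).resolve_right hz

include H in
theorem mem_range_or (z : PrimeSpectrum C) :
    z ∈ Set.range (PrimeSpectrum.comap π₂) ∨ ∃ c, π₂ c = 0 ∧ c ∉ z.asIdeal := by
  rcases em (RingHom.ker π₂ ≤ z.asIdeal) with h | h
  · left
    rw [range_comap_of_surjective _ _ H.surj₂]
    exact h
  · right
    obtain ⟨c, hc, hc'⟩ := Set.not_subset.1 h
    exact ⟨c, hc, hc'⟩

/-- The first leg. -/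
noncomputable abbrev i₁ (π₁ : C →+* A') : Spec (CommRingCat.of A') ⟶ Spec (CommRingCat.of C) :=
  Spec.map (CommRingCat.ofHom π₁)

include H in
theorem exists_preimage (z : Spec (CommRingCat.of C)) :
    (∃ a, i₁ π₁ a = z) ∨ ∃ b, i₁ π₂ b = z := by
  rcases H.mem_range_or z with ⟨b, hb⟩ | ⟨c, hc, hz⟩
  · exact Or.inr ⟨b, hb⟩
  · obtain ⟨a, ha⟩ := H.mem_range₁ z c hc hz
    exact Or.inl ⟨a, ha⟩

theorem l₁_comp {C A' : Type u} [CommRing C] [CommRing A'] (π₁ : C →+* A') (h : C) :
    i₁ (l₁ π₁ h) ≫ i₁ (algebraMap C (Localization.Away h)) =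
      i₁ (algebraMap A' (Localization.Away (π₁ h))) ≫ i₁ π₁ := by
  rw [← Spec.map_comp, ← Spec.map_comp]
  congr 1
  ext c
  simp [l₁, IsLocalization.Away.map]

include H in
/-- Maps out of the spectrum of a fibre product are determined by the restrictions. -/
theorem hom_ext {X : Scheme.{u}} {u v : Spec (CommRingCat.of C) ⟶ X}
    (h₁ : i₁ π₁ ≫ u = i₁ π₁ ≫ v) (h₂ : i₁ π₂ ≫ u = i₁ π₂ ≫ v) : u = v := by
  have hpt : ∀ z, u z = v z := by
    intro z
    rcases H.exists_preimage z with ⟨a, rfl⟩ | ⟨b, rfl⟩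
    · simp only [← Scheme.Hom.comp_apply, h₁]
    · simp only [← Scheme.Hom.comp_apply, h₂]
  have hloc : ∀ z, ∃ (h : C) (W : X.Opens), IsAffineOpen W ∧ z ∈ PrimeSpectrum.basicOpen h ∧
      Set.range (i₁ (algebraMap C (Localization.Away h))) ⊆ u ⁻¹' W := by
    intro z
    obtain ⟨_, ⟨W, hW, rfl⟩, hzW, -⟩ := X.isBasis_affineOpens.exists_subset_of_mem_open
      (Set.mem_univ (u z)) isOpen_univ
    obtain ⟨_, ⟨h, rfl⟩, hzh, hh⟩ := PrimeSpectrum.isTopologicalBasis_basic_opens.exists_subset_of_mem_open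
      (show z ∈ (u ⁻¹ᵁ W : Set (Spec (CommRingCat.of C))) from hzW) (u ⁻¹ᵁ W).2
    exact ⟨h, W, hW, hzh, fun y hy =>
      hh ((PrimeSpectrum.localization_away_comap_range (Localization.Away h) h).le hy)⟩
  choose h W hW hzh hsub using hloc
  have hsup : Ideal.span (Set.range h) = ⊤ := by
    rw [← PrimeSpectrum.iSup_basicOpen_eq_top_iff]
    exact top_le_iff.1 fun z _ => TopologicalSpace.Opens.mem_iSup.2 ⟨z, hzh z⟩
  refine Scheme.Cover.hom_ext (Scheme.affineOpenCoverOfSpanRangeEqTop h hsup).openCover _ _ fun z => ?_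
  change i₁ (algebraMap C (Localization.Away (h z))) ≫ u = i₁ (algebraMap C (Localization.Away (h z))) ≫ v
  let j := i₁ (algebraMap C (Localization.Away (h z)))
  have hu : Set.range (j ≫ u) ⊆ Set.range (hW z).fromSpec := by
    rw [IsAffineOpen.range_fromSpec]
    rintro _ ⟨y, rfl⟩
    exact hsub z ⟨y, rfl⟩
  have hv : Set.range (j ≫ v) ⊆ Set.range (hW z).fromSpec := by
    rintro _ ⟨y, rfl⟩
    rw [Scheme.Hom.comp_apply, ← hpt]
    exact hu ⟨y, rfl⟩
  change j ≫ u = j ≫ v
  rw [← IsOpenImmersion.lift_fac _ _ hu, ← IsOpenImmersion.lift_fac _ _ hv]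
  congr 1
  obtain ⟨φ, hφ⟩ := Spec.map_surjective (IsOpenImmersion.lift _ _ hu)
  obtain ⟨ψ, hψ⟩ := Spec.map_surjective (IsOpenImmersion.lift _ _ hv)
  rw [← hφ, ← hψ]
  congr 1
  refine CommRingCat.hom_ext (RingHom.ext fun w => (H.localize (h z)).inj ?_ ?_)
  · refine ConcreteCategory.congr_hom (Spec.map_injective ?_ :
      φ ≫ CommRingCat.ofHom (l₁ π₁ (h z)) = ψ ≫ CommRingCat.ofHom (l₁ π₁ (h z))) w
    rw [Spec.map_comp, Spec.map_comp, hφ, hψ, ← cancel_mono (hW z).fromSpec, Category.assoc,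
      Category.assoc, IsOpenImmersion.lift_fac, IsOpenImmersion.lift_fac]
    simp only [j]
    rw [reassoc_of% l₁_comp, reassoc_of% l₁_comp, h₁]
  · refine ConcreteCategory.congr_hom (Spec.map_injective ?_ :
      φ ≫ CommRingCat.ofHom (l₁ π₂ (h z)) = ψ ≫ CommRingCat.ofHom (l₁ π₂ (h z))) w
    rw [Spec.map_comp, Spec.map_comp, hφ, hψ, ← cancel_mono (hW z).fromSpec, Category.assoc,
      Category.assoc, IsOpenImmersion.lift_fac, IsOpenImmersion.lift_fac]
    simp only [j]
    rw [reassoc_of% l₁_comp, reassoc_of% l₁_comp, h₂]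

theorem comm_Spec (H : Square p q π₁ π₂) :
    Spec.map (CommRingCat.ofHom p) ≫ i₁ π₁ = Spec.map (CommRingCat.ofHom q) ≫ i₁ π₂ := by
  rw [← Spec.map_comp, ← Spec.map_comp]
  congr 1
  ext c
  exact H.comm c

include H in
/-- Gluing into an affine scheme. -/
theorem exists_desc_of_affine {X : Scheme.{u}} {W : X.Opens} (hW : IsAffineOpen W)
    (f₁ : Spec (CommRingCat.of A') ⟶ X) (f₂ : Spec (CommRingCat.of B) ⟶ X)
    (w : Spec.map (CommRingCat.ofHom p) ≫ f₁ = Spec.map (CommRingCat.ofHom q) ≫ f₂)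
    (h₁ : Set.range f₁ ⊆ W) (h₂ : Set.range f₂ ⊆ W) :
    ∃ g, i₁ π₁ ≫ g = f₁ ∧ i₁ π₂ ≫ g = f₂ := by
  rw [← hW.range_fromSpec] at h₁ h₂
  obtain ⟨φ, hφ⟩ := Spec.map_surjective (IsOpenImmersion.lift _ _ h₁)
  obtain ⟨ψ, hψ⟩ := Spec.map_surjective (IsOpenImmersion.lift _ _ h₂)
  have hw : φ ≫ CommRingCat.ofHom p = ψ ≫ CommRingCat.ofHom q := by
    apply Spec.map_injective
    rw [Spec.map_comp, Spec.map_comp, hφ, hψ, ← cancel_mono hW.fromSpec, Category.assoc,
      Category.assoc, IsOpenImmersion.lift_fac, IsOpenImmersion.lift_fac, w]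
  have hex : ∀ x, ∃ c, π₁ c = φ x ∧ π₂ c = ψ x :=
    fun x => H.exists_lift _ _ (ConcreteCategory.congr_hom hw x)
  choose χ hχ₁ hχ₂ using hex
  let θ : Γ(X, W) →+* C :=
    { toFun := χ
      map_one' := H.inj (by simp [hχ₁]) (by simp [hχ₂])
      map_mul' := fun x y => H.inj (by simp [hχ₁]) (by simp [hχ₂])
      map_zero' := H.inj (by simp [hχ₁]) (by simp [hχ₂])
      map_add' := fun x y => H.inj (by simp [hχ₁]) (by simp [hχ₂]) }
  refine ⟨Spec.map (CommRingCat.ofHom θ) ≫ hW.fromSpec, ?_, ?_⟩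
  · rw [← IsOpenImmersion.lift_fac _ _ h₁, ← hφ, ← Spec.map_comp_assoc]
    congr 2
    ext x
    exact hχ₁ x
  · rw [← IsOpenImmersion.lift_fac _ _ h₂, ← hψ, ← Spec.map_comp_assoc]
    congr 2
    ext x
    exact hχ₂ x

include H in
/-- Every point has a basic neighbourhood whose two preimages land in one affine open. -/
theorem exists_good {X : Scheme.{u}}
    (f₁ : Spec (CommRingCat.of A') ⟶ X) (f₂ : Spec (CommRingCat.of B) ⟶ X)
    (w : Spec.map (CommRingCat.ofHom p) ≫ f₁ = Spec.map (CommRingCat.ofHom q) ≫ f₂)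
    (z : Spec (CommRingCat.of C)) : ∃ (h : C) (W : X.Opens), IsAffineOpen W ∧
      z ∈ PrimeSpectrum.basicOpen h ∧
      (∀ a, a ∈ PrimeSpectrum.basicOpen (π₁ h) → f₁ a ∈ W) ∧
      (∀ b, b ∈ PrimeSpectrum.basicOpen (π₂ h) → f₂ b ∈ W) := by
  rcases H.mem_range_or z with ⟨b, rfl⟩ | ⟨c, hc, hz⟩
  · obtain ⟨_, ⟨W, hW, rfl⟩, hbW, -⟩ := X.isBasis_affineOpens.exists_subset_of_mem_open
      (Set.mem_univ (f₂ b)) isOpen_univ
    obtain ⟨_, ⟨β, rfl⟩, hbβ, hβ⟩ := PrimeSpectrum.isTopologicalBasis_basic_opens.exists_subset_of_mem_open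
      (show b ∈ (f₂ ⁻¹ᵁ W : Set (Spec (CommRingCat.of B))) from hbW) (f₂ ⁻¹ᵁ W).2
    obtain ⟨s, hs⟩ := (PrimeSpectrum.isClosed_iff_zeroLocus _).1 (f₁ ⁻¹ᵁ W).2.isClosed_compl
    let J := Ideal.span s
    have hmem : q β ∈ (J.map p).radical := by
      rw [← PrimeSpectrum.vanishingIdeal_zeroLocus_eq_radical, PrimeSpectrum.mem_vanishingIdeal]
      intro x hx
      by_contra hxβ
      have hxW : (Spec.map (CommRingCat.ofHom q) ≫ f₂) x ∈ W :=
        hβ (show PrimeSpectrum.comap q x ∈ PrimeSpectrum.basicOpen β from hxβ)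
      rw [← w, Scheme.Hom.comp_apply] at hxW
      have hJ : PrimeSpectrum.comap p x ∈ PrimeSpectrum.zeroLocus s := fun y hy =>
        hx (Ideal.mem_map_of_mem p (Ideal.subset_span hy))
      rw [← hs] at hJ
      exact hJ hxW
    obtain ⟨n, hn⟩ := hmem
    have hn' : q β ^ (n + 1) ∈ J.map p := by
      rw [pow_succ]
      exact Ideal.mul_mem_right _ _ hn
    obtain ⟨j, hj, hpj⟩ := (Ideal.mem_map_iff_of_surjective p H.surj).1 hn'
    obtain ⟨h, hh₁, hh₂⟩ := H.exists_lift j (β ^ (n + 1)) (by rw [hpj, map_pow])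
    refine ⟨h, W, hW, ?_, fun a ha => ?_, fun b' hb' => hβ ?_⟩
    · change π₂ h ∉ b.asIdeal
      rw [hh₂, b.isPrime.pow_mem_iff_mem _ (Nat.succ_pos n)]
      exact hbβ
    · by_contra haW
      have : a ∈ PrimeSpectrum.zeroLocus s := hs ▸ haW
      rw [hh₁] at ha
      exact ha (Ideal.span_le.2 this hj)
    · rw [hh₂, PrimeSpectrum.basicOpen_pow _ _ (Nat.succ_pos n)] at hb'
      exact hb'
  · obtain ⟨a, rfl⟩ := H.mem_range₁ z c hc hz
    obtain ⟨_, ⟨W, hW, rfl⟩, haW, -⟩ := X.isBasis_affineOpens.exists_subset_of_mem_open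
      (Set.mem_univ (f₁ a)) isOpen_univ
    obtain ⟨_, ⟨α, rfl⟩, haα, hα⟩ := PrimeSpectrum.isTopologicalBasis_basic_opens.exists_subset_of_mem_open
      (show a ∈ (f₁ ⁻¹ᵁ W : Set (Spec (CommRingCat.of A'))) from haW) (f₁ ⁻¹ᵁ W).2
    obtain ⟨h, hh₁, hh₂⟩ := H.exists_lift (α * π₁ c) 0
      (by rw [map_mul, H.comm, hc, map_zero, mul_zero])
    refine ⟨h, W, hW, ?_, fun a' ha' => hα ?_, fun b' hb' => ?_⟩
    · change π₁ h ∉ a.asIdeal
      rw [hh₁]
      exact fun hm => (a.isPrime.mem_or_mem hm).elim haα hz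
    · rw [hh₁] at ha'
      exact fun hm => ha' (Ideal.mul_mem_right _ _ hm)
    · rw [hh₂] at hb'
      exact absurd (zero_mem b'.asIdeal) hb'

include H in
theorem exists_desc {X : Scheme.{u}}
    (f₁ : Spec (CommRingCat.of A') ⟶ X) (f₂ : Spec (CommRingCat.of B) ⟶ X)
    (w : Spec.map (CommRingCat.ofHom p) ≫ f₁ = Spec.map (CommRingCat.ofHom q) ≫ f₂) :
    ∃ g, i₁ π₁ ≫ g = f₁ ∧ i₁ π₂ ≫ g = f₂ := by
  choose h W hW hzh ha hb using H.exists_good f₁ f₂ w
  have hsup : Ideal.span (Set.range h) = ⊤ := by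
    rw [← PrimeSpectrum.iSup_basicOpen_eq_top_iff]
    exact top_le_iff.1 fun z _ => TopologicalSpace.Opens.mem_iSup.2 ⟨z, hzh z⟩
  let 𝒰 := (Scheme.affineOpenCoverOfSpanRangeEqTop (R := CommRingCat.of C) h hsup).openCover
  have hex : ∀ z : Spec (CommRingCat.of C), ∃ g : Spec (CommRingCat.of (Localization.Away (h z))) ⟶ X,
      i₁ (l₁ π₁ (h z)) ≫ g = i₁ (algebraMap A' _) ≫ f₁ ∧
      i₁ (l₁ π₂ (h z)) ≫ g = i₁ (algebraMap B _) ≫ f₂ := by
    intro z
    refine (H.localize (h z)).exists_desc_of_affine (hW z) _ _ ?_ ?_ ?_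
    · rw [← Category.assoc, ← Category.assoc, ← Spec.map_comp, ← Spec.map_comp]
      rw [show CommRingCat.ofHom (algebraMap A' (Localization.Away (π₁ (h z)))) ≫
          CommRingCat.ofHom (lp p (π₁ (h z))) =
        CommRingCat.ofHom p ≫ CommRingCat.ofHom (algebraMap A _) by
          ext x; simp [lp, IsLocalization.Away.map],
        show CommRingCat.ofHom (algebraMap B (Localization.Away (π₂ (h z)))) ≫
          CommRingCat.ofHom (H.lq (h z)) =
        CommRingCat.ofHom q ≫ CommRingCat.ofHom (algebraMap A _) by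
          ext x; simp [lq],
        Spec.map_comp, Spec.map_comp, Category.assoc, Category.assoc, w]
    · rintro _ ⟨y, rfl⟩
      refine ha z _ ?_
      exact (PrimeSpectrum.localization_away_comap_range (Localization.Away (π₁ (h z))) (π₁ (h z))).le
        ⟨y, rfl⟩
    · rintro _ ⟨y, rfl⟩
      refine hb z _ ?_
      exact (PrimeSpectrum.localization_away_comap_range (Localization.Away (π₂ (h z))) (π₂ (h z))).le
        ⟨y, rfl⟩
  choose g hg₁ hg₂ using hex
  let g' : ∀ z, 𝒰.X z ⟶ X := g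
  have hcompat : ∀ z z', pullback.fst (𝒰.f z) (𝒰.f z') ≫ g' z = pullback.snd (𝒰.f z) (𝒰.f z') ≫ g' z' := by
    intro z z'
    let P := pullback (𝒰.f z) (𝒰.f z')
    let j : P ⟶ Spec (CommRingCat.of C) := pullback.fst (𝒰.f z) (𝒰.f z') ≫ 𝒰.f z
    have hk : ∀ y : P, ∃ k : C, j y ∈ PrimeSpectrum.basicOpen k ∧
        Set.range (i₁ (algebraMap C (Localization.Away k))) ⊆ Set.range j := by
      intro y
      obtain ⟨_, ⟨k, rfl⟩, hyk, hk⟩ := PrimeSpectrum.isTopologicalBasis_basic_opens.exists_subset_of_mem_open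
        (Set.mem_range_self y : j y ∈ Set.range j) j.isOpenEmbedding.isOpen_range
      exact ⟨k, hyk, fun x hx =>
        hk ((PrimeSpectrum.localization_away_comap_range (Localization.Away k) k).le hx)⟩
    choose k hyk hk using hk
    let 𝒱 : Scheme.OpenCover.{u, u} P :=
      { I₀ := P
        X := fun y => Spec (CommRingCat.of (Localization.Away (k y)))
        f := fun y => IsOpenImmersion.lift j _ (hk y)
        mem₀ := by
          rw [Scheme.presieve₀_mem_precoverage_iff]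
          refine ⟨fun y => ?_, fun y => ?_⟩
          · obtain ⟨x, hx⟩ : j y ∈ Set.range (i₁ (algebraMap C (Localization.Away (k y)))) := by
              refine (PrimeSpectrum.localization_away_comap_range (Localization.Away (k y)) (k y)).ge ?_
              exact hyk y
            refine ⟨y, x, j.isOpenEmbedding.injective ?_⟩
            rw [← Scheme.Hom.comp_apply, IsOpenImmersion.lift_fac, hx]
          · have : IsOpenImmersion (i₁ (algebraMap C (Localization.Away (k y)))) :=
              IsOpenImmersion.of_isLocalization (k y)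
            have := IsOpenImmersion.lift_fac j (i₁ (algebraMap C (Localization.Away (k y)))) (hk y)
            exact IsOpenImmersion.of_comp _ j }
    refine Scheme.Cover.hom_ext 𝒱 _ _ fun y => ?_
    have hj : j = pullback.snd (𝒰.f z) (𝒰.f z') ≫ 𝒰.f z' := pullback.condition
    refine (H.localize (k y)).hom_ext ?_ ?_
    · have key : ∀ (x : Spec (CommRingCat.of C)) (u : Spec (CommRingCat.of (Localization.Away (π₁ (k y)))) ⟶ Spec (CommRingCat.of (Localization.Away (h x)))),
          u ≫ i₁ (algebraMap C (Localization.Away (h x))) = i₁ (algebraMap A' (Localization.Away (π₁ (k y)))) ≫ i₁ π₁ →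
          u ≫ g x = i₁ (algebraMap A' (Localization.Away (π₁ (k y)))) ≫ f₁ := by
        intro x u hu
        -- `u` factors through `Spec A'_{π₁ h_x}`
        have hpb : Set.range (i₁ (algebraMap A' (Localization.Away (π₁ (k y))))) ⊆
            Set.range (i₁ (algebraMap A' (Localization.Away (π₁ (h x))))) := by
          rintro _ ⟨t, rfl⟩
          refine (PrimeSpectrum.localization_away_comap_range (Localization.Away (π₁ (h x))) (π₁ (h x))).ge ?_
          have h3 : (u ≫ i₁ (algebraMap C (Localization.Away (h x)))) t ∈ Set.range (i₁ (algebraMap C (Localization.Away (h x)))) := ⟨u t, rfl⟩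
          rw [hu] at h3
          exact (PrimeSpectrum.localization_away_comap_range (Localization.Away (h x)) (h x)).le h3
        have : IsOpenImmersion (i₁ (algebraMap A' (Localization.Away (π₁ (h x))))) :=
          IsOpenImmersion.of_isLocalization (π₁ (h x))
        have : IsOpenImmersion (i₁ (algebraMap C (Localization.Away (h x)))) :=
          IsOpenImmersion.of_isLocalization (h x)
        have hu' : u = IsOpenImmersion.lift (i₁ (algebraMap A' (Localization.Away (π₁ (h x))))) _ hpb ≫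
            i₁ (l₁ π₁ (h x)) := by
          rw [← cancel_mono (i₁ (algebraMap C (Localization.Away (h x)))), Category.assoc, l₁_comp,
            IsOpenImmersion.lift_fac_assoc]
          exact hu
        rw [hu', Category.assoc]
        rw [hg₁, IsOpenImmersion.lift_fac_assoc]
      have e : i₁ (l₁ π₁ (k y)) ≫ 𝒱.f y ≫ j =
          i₁ (algebraMap A' (Localization.Away (π₁ (k y)))) ≫ i₁ π₁ := by
        rw [← l₁_comp]
        congr 1
        exact IsOpenImmersion.lift_fac _ _ _
      rw [← Category.assoc (𝒱.f y), ← Category.assoc (𝒱.f y),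
        ← Category.assoc (i₁ (l₁ π₁ (k y))), ← Category.assoc (i₁ (l₁ π₁ (k y)))]
      refine (key z ((i₁ (l₁ π₁ (k y)) ≫ 𝒱.f y) ≫ pullback.fst (𝒰.f z) (𝒰.f z')) ?_).trans
        ((key z' ((i₁ (l₁ π₁ (k y)) ≫ 𝒱.f y) ≫ pullback.snd (𝒰.f z) (𝒰.f z')) ?_).symm.trans ?_)
      · rw [← e]; simp only [j, Category.assoc]; rfl
      · rw [← e, hj]; simp only [Category.assoc]; rfl
      · simp only [Category.assoc]; rfl
    · have key : ∀ (x : Spec (CommRingCat.of C)) (u : Spec (CommRingCat.of (Localization.Away (π₂ (k y)))) ⟶ Spec (CommRingCat.of (Localization.Away (h x)))),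
          u ≫ i₁ (algebraMap C (Localization.Away (h x))) = i₁ (algebraMap B (Localization.Away (π₂ (k y)))) ≫ i₁ π₂ →
          u ≫ g x = i₁ (algebraMap B (Localization.Away (π₂ (k y)))) ≫ f₂ := by
        intro x u hu
        have hpb : Set.range (i₁ (algebraMap B (Localization.Away (π₂ (k y))))) ⊆
            Set.range (i₁ (algebraMap B (Localization.Away (π₂ (h x))))) := by
          rintro _ ⟨t, rfl⟩
          refine (PrimeSpectrum.localization_away_comap_range (Localization.Away (π₂ (h x))) (π₂ (h x))).ge ?_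
          have h3 : (u ≫ i₁ (algebraMap C (Localization.Away (h x)))) t ∈ Set.range (i₁ (algebraMap C (Localization.Away (h x)))) := ⟨u t, rfl⟩
          rw [hu] at h3
          exact (PrimeSpectrum.localization_away_comap_range (Localization.Away (h x)) (h x)).le h3
        have : IsOpenImmersion (i₁ (algebraMap B (Localization.Away (π₂ (h x))))) :=
          IsOpenImmersion.of_isLocalization (π₂ (h x))
        have : IsOpenImmersion (i₁ (algebraMap C (Localization.Away (h x)))) :=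
          IsOpenImmersion.of_isLocalization (h x)
        have hu' : u = IsOpenImmersion.lift (i₁ (algebraMap B (Localization.Away (π₂ (h x))))) _ hpb ≫
            i₁ (l₁ π₂ (h x)) := by
          rw [← cancel_mono (i₁ (algebraMap C (Localization.Away (h x)))), Category.assoc, l₁_comp,
            IsOpenImmersion.lift_fac_assoc]
          exact hu
        rw [hu', Category.assoc]
        rw [hg₂, IsOpenImmersion.lift_fac_assoc]
      have e : i₁ (l₁ π₂ (k y)) ≫ 𝒱.f y ≫ j =
          i₁ (algebraMap B (Localization.Away (π₂ (k y)))) ≫ i₁ π₂ := by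
        rw [← l₁_comp]
        congr 1
        exact IsOpenImmersion.lift_fac _ _ _
      rw [← Category.assoc (𝒱.f y), ← Category.assoc (𝒱.f y),
        ← Category.assoc (i₁ (l₁ π₂ (k y))), ← Category.assoc (i₁ (l₁ π₂ (k y)))]
      refine (key z ((i₁ (l₁ π₂ (k y)) ≫ 𝒱.f y) ≫ pullback.fst (𝒰.f z) (𝒰.f z')) ?_).trans
        ((key z' ((i₁ (l₁ π₂ (k y)) ≫ 𝒱.f y) ≫ pullback.snd (𝒰.f z) (𝒰.f z')) ?_).symm.trans ?_)
      · rw [← e]; simp only [j, Category.assoc]; rfl
      · rw [← e, hj]; simp only [Category.assoc]; rfl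
      · simp only [Category.assoc]; rfl
  refine ⟨Scheme.Cover.glueMorphisms 𝒰 g' hcompat, ?_, ?_⟩
  · have hsup₁ : Ideal.span (Set.range fun z => π₁ (h z)) = ⊤ := by
      rw [show (Set.range fun z => π₁ (h z)) = π₁ '' Set.range h by rw [← Set.range_comp]; rfl,
        ← Ideal.map_span, hsup, Ideal.map_top]
    refine Scheme.Cover.hom_ext
      (Scheme.affineOpenCoverOfSpanRangeEqTop (R := CommRingCat.of A') _ hsup₁).openCover _ _ fun z => ?_
    change i₁ (algebraMap A' (Localization.Away (π₁ (h z)))) ≫ _ = _ ≫ f₁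
    rw [← reassoc_of% l₁_comp]
    change i₁ (l₁ π₁ (h z)) ≫ 𝒰.f z ≫ _ = _
    exact (congrArg (fun m => i₁ (l₁ π₁ (h z)) ≫ m)
      (Scheme.Cover.ι_glueMorphisms 𝒰 g' hcompat z)).trans (hg₁ z)
  · have hsup₂ : Ideal.span (Set.range fun z => π₂ (h z)) = ⊤ := by
      rw [show (Set.range fun z => π₂ (h z)) = π₂ '' Set.range h by rw [← Set.range_comp]; rfl,
        ← Ideal.map_span, hsup, Ideal.map_top]
    refine Scheme.Cover.hom_ext
      (Scheme.affineOpenCoverOfSpanRangeEqTop (R := CommRingCat.of B) _ hsup₂).openCover _ _ fun z => ?_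
    change i₁ (algebraMap B (Localization.Away (π₂ (h z)))) ≫ _ = _ ≫ f₂
    rw [← reassoc_of% l₁_comp]
    change i₁ (l₁ π₂ (h z)) ≫ 𝒰.f z ≫ _ = _
    exact (congrArg (fun m => i₁ (l₁ π₂ (h z)) ≫ m)
      (Scheme.Cover.ι_glueMorphisms 𝒰 g' hcompat z)).trans (hg₂ z)

include H in
/-- `Spec` of a fibre product along a surjection is a pushout of schemes. -/
theorem isPushout_Spec :
    IsPushout (Spec.map (CommRingCat.ofHom p)) (Spec.map (CommRingCat.ofHom q)) (i₁ π₁) (i₁ π₂) := by
  refine IsPushout.of_isColimit' ⟨H.comm_Spec⟩ (PushoutCocone.IsColimit.mk _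
    (fun s => (H.exists_desc s.inl s.inr s.condition).choose)
    (fun s => (H.exists_desc s.inl s.inr s.condition).choose_spec.1)
    (fun s => (H.exists_desc s.inl s.inr s.condition).choose_spec.2)
    fun s m h₁ h₂ => H.hom_ext
      (h₁.trans (H.exists_desc s.inl s.inr s.condition).choose_spec.1.symm)
      (h₂.trans (H.exists_desc s.inl s.inr s.condition).choose_spec.2.symm))

end Square

end Groth.Agent.Ferrand
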